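import Cfsg.Agent.H948.RV.DBCls
import Cfsg.Agent.H808.RV.Iso

/-!
# TEAM RV, rows R4 (`2, p ∈ π`): `Cls` rows give `FamRow`
-/

set_option autoImplicit false

namespace Cfsg.Agent.H948.RV

open Subgroup Cfsg Cfsg.Agent.H988.CPi Cfsg.Agent.H571.RV Cfsg.Agent.H454.PiBS

variable {π : Set ℕ} {S : Type*} [Group S] [Finite S]

/-- the row from the `Cls` row -/
theorem r4_of (hcls : ∀ A : Subgroup (MulAut S), Cls π A →
      (∀ p : ℕ, p.Prime → p ∣ Nat.card S → p ∈ π) ∨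
        ∀ r : ℕ, r.Prime → r ∈ π → r ∣ Nat.card S → r = 2)
    (h : DB π S) : PiGrp π S ∨ OnePrime π S := by
  obtain ⟨A, -, hA⟩ := h.cls
  rcases hcls A hA with h1 | h1
  · exact Or.inl h1
  · exact Or.inr fun p q hp hq hpπ hqπ hpd hqd => (h1 p hp hpπ hpd).trans (h1 q hq hqπ hqd).symm

/-- **the family row** -/
theorem famRow_of (hcls : ∀ A : Subgroup (MulAut S), Cls π A →
      (∀ p : ℕ, p.Prime → p ∣ Nat.card S → p ∈ π) ∨
        ∀ r : ℕ, r.Prime → r ∈ π → r ∣ Nat.card S → r = 2) : FamRow π S := by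
  intro h
  rcases r4_of hcls h with h1 | h1
  · exact Or.inl h1
  · exact Or.inr ⟨Cfsg.Agent.H808.RV.cpi_of_onePrime h1, Cfsg.Agent.H808.RV.fhall_of_onePrime h1⟩

end Cfsg.Agent.H948.RV
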