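import Cfsg.Agent.H948.RV.RFour
import Cfsg.Agent.H443.PC.RowChar

/-!
# TEAM RV, rows R4 (`2, p ∈ π`) for the groups of Lie type in characteristic `p`
-/

set_option autoImplicit false

namespace Cfsg.Agent.H948.RV

open Subgroup Cfsg Cfsg.Agent.H571.RV

universe u

variable {π : Set ℕ} {S : Type u} [Group S] [Finite S] [IsSimpleGroup S]

/-- **R4**: `2, p ∈ π`. -/
theorem r4 (hna : ¬ IsMulCommutative S) {p : ℕ} (hp : p.Prime) (hG : IsLieTypeChar p S) (h2 : 2 ∈ π) (hpπ : p ∈ π)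
    (h : DB π S) : PiGrp π S ∨ OnePrime π S :=
  r4_of (fun _ hA => Cfsg.Agent.H443.PC.cls_char hna hp hG h2 hpπ hA) h

/-- **R4**, the family row -/
theorem famRow (hna : ¬ IsMulCommutative S) {p : ℕ} (hp : p.Prime) (hG : IsLieTypeChar p S) (h2 : 2 ∈ π)
    (hpπ : p ∈ π) : FamRow π S :=
  famRow_of fun _ hA => Cfsg.Agent.H443.PC.cls_char hna hp hG h2 hpπ hA

end Cfsg.Agent.H948.RV
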